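/-
Numerical side conditions for the separation of simple roots by the torus and for generation of U by
simple root groups.
-/
import Cfsg.Agent.Lib.Lie.Rel.Inst
import Cfsg.Agent.Lib.Lie.Chev.All

set_option autoImplicit false

namespace CfsgLib.Lie.Chev

open Cfsg.Lie

/-- the exponent of `c` in `χ_k (h_a(c) h_b(c^m))` -/
def sepExp (D : ChevalleyDatum) (a b m k : ℕ) : ℤ :=
  D.cartan a (D.simple k) + (m : ℤ) * D.cartan b (D.simple k)

/-- small nonzero exponent -/
def smallExp (e : ℤ) : Bool := decide (e = 1 ∨ e = -1 ∨ e = 2 ∨ e = -2)

/-- two simple roots are separated by a one-parameter torus (large fields) -/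
def chkSep (D : ChevalleyDatum) : Bool :=
  (List.range D.rank).all fun i => (List.range D.rank).all fun k => Nat.beq i k ||
    (List.range D.rank).any fun a => (List.range D.rank).any fun b => [0, 2].any fun m =>
      (decide (sepExp D a b m k = 0) && smallExp (sepExp D a b m i)) ||
      (decide (sepExp D a b m i = 0) && smallExp (sepExp D a b m k))

/-- two simple roots are separated by an involution of the torus (three elements) -/
def chkSepOdd (D : ChevalleyDatum) : Bool :=
  (List.range D.rank).all fun i => (List.range D.rank).all fun k => Nat.beq i k ||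
    (List.range D.rank).any fun a => !decide (D.cartan a (D.simple i) % 2 = D.cartan a (D.simple k) % 2)

/-- admissible term in the elimination of root `k` -/
def termOK (k : ℕ) (x : ℕ × ℤ × ℕ × ℕ) (low : Bool) (c : ℕ × ℤ × ℕ × ℕ) : Bool :=
  c == x || Nat.blt k c.1 ||
    (low && Nat.blt c.1 k && Nat.beq c.2.2.1 1 && Nat.ble 1 c.2.2.2 && Nat.ble c.2.2.2 3 &&
      !Nat.beq c.2.2.2 x.2.2.2)

/-- every positive root is simple or can be isolated in a commutator of positive root elements -/
def chkDer (D : ChevalleyDatum) (low : Bool) : Bool :=
  (List.range D.nroots).all fun k => Nat.blt k (half D) || ((List.range D.rank).any fun i => Nat.beq k (D.simple i)) ||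
    (List.range D.rank).any fun i => (List.range D.nroots).any fun s =>
      let r := D.simple i
      Nat.ble (half D) s && !Nat.beq r s &&
      let L := D.commTerms r s
      L.any fun x => Nat.beq x.1 k && decide (x.2.1 = 1 ∨ x.2.1 = -1) && Nat.beq x.2.2.1 1 &&
        Nat.ble 1 x.2.2.2 && Nat.ble x.2.2.2 3 && Nat.beq (L.count x) 1 && L.all (termOK k x low)

/-- conditions used over a field with more than three elements -/
def WCBig (D : ChevalleyDatum) : Prop := chkSep D = true ∧ chkDer D true = true

/-- conditions used over the field with three elements -/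
def WCThree (D : ChevalleyDatum) : Prop := chkSepOdd D = true ∧ chkDer D false = true

theorem wcBig_of_mem {D : ChevalleyDatum}
    (hD : D ∈ [chevG2, chevB2, chevD4, chevF4, chevE6, chevE7, chevE8]) : WCBig D := by
  simp only [List.mem_cons, List.not_mem_nil, or_false] at hD
  rcases hD with rfl | rfl | rfl | rfl | rfl | rfl | rfl
  all_goals exact ⟨by decide +kernel, by decide +kernel⟩

theorem wcThree_of_mem {D : ChevalleyDatum} (hD : D ∈ [chevE6, chevE7, chevE8]) : WCThree D := by
  simp only [List.mem_cons, List.not_mem_nil, or_false] at hD
  rcases hD with rfl | rfl | rfl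
  all_goals exact ⟨by decide +kernel, by decide +kernel⟩

end CfsgLib.Lie.Chev
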