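/-
The abelianisation of U is spanned by the simple root groups, and the simple coordinates of an element of U.
-/
import Cfsg.Agent.Lib.Lie.Rel.Parabolic
import Cfsg.Agent.Lib.Lie.WeakClosed.Checks

set_option autoImplicit false

namespace CfsgLib.Lie.Chev

open Cfsg.Lie (ChevalleyDatum)

/-- weights isolating one exponent among `1, 2, 3` -/
def Split (F : Type*) [Field F] (low : Bool) : Prop :=
  ∀ j : ℕ, 1 ≤ j → j ≤ 3 → ∃ w u : Fin 3 → F, (∑ m, w m * u m ^ j) ≠ 0 ∧
    (low = true → ∀ j' : ℕ, 1 ≤ j' → j' ≤ 3 → j' ≠ j → ∑ m, w m * u m ^ j' = 0)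

theorem split_false (F : Type*) [Field F] : Split F false := fun j _ _ =>
  ⟨![1, 0, 0], ![1, 0, 0], by simp [Fin.sum_univ_three], by simp⟩

theorem split_true {F : Type*} [Field F] {v : F} (h0 : v ≠ 0) (h1 : v ≠ 1) (h2 : v ^ 2 ≠ 1) : Split F true := by
  intro j hj hj'
  obtain ⟨a, b, hab⟩ : ∃ a b : ℕ, (j = 1 ∧ a = 2 ∧ b = 3) ∨ (j = 2 ∧ a = 1 ∧ b = 3) ∨ (j = 3 ∧ a = 1 ∧ b = 2) := by
    interval_cases j
    · exact ⟨2, 3, by tauto⟩
    · exact ⟨1, 3, by tauto⟩
    · exact ⟨1, 2, by tauto⟩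
  have e : ∀ l : ℕ, ∑ m, (![v ^ a * v ^ b, -(v ^ a + v ^ b), 1] : Fin 3 → F) m * (![1, v, v ^ 2] : Fin 3 → F) m ^ l =
      (v ^ l - v ^ a) * (v ^ l - v ^ b) := by
    intro l
    simp only [Fin.sum_univ_three, Matrix.cons_val_zero, Matrix.cons_val_one, Matrix.cons_val_two,
      Matrix.head_cons, Matrix.tail_cons, one_pow, ← pow_mul]
    ring
  have hne : ∀ k l : ℕ, k ≤ 3 → l ≤ 3 → 1 ≤ k → 1 ≤ l → k ≠ l → v ^ k - v ^ l ≠ 0 := by
    intro k l hk hl hk1 hl1 hkl h
    have h1' : v - 1 ≠ 0 := sub_ne_zero.2 h1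
    have h2' : v ^ 2 - 1 ≠ 0 := sub_ne_zero.2 h2
    interval_cases k <;> interval_cases l <;> first | exact hkl rfl | skip
    · exact mul_ne_zero h0 h1' (by linear_combination -h)
    · exact mul_ne_zero h0 h2' (by linear_combination -h)
    · exact mul_ne_zero h0 h1' (by linear_combination h)
    · exact mul_ne_zero (pow_ne_zero 2 h0) h1' (by linear_combination -h)
    · exact mul_ne_zero h0 h2' (by linear_combination h)
    · exact mul_ne_zero (pow_ne_zero 2 h0) h1' (by linear_combination h)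
  refine ⟨![v ^ a * v ^ b, -(v ^ a + v ^ b), 1], ![1, v, v ^ 2], ?_, fun _ l hl hl' hlj => ?_⟩
  · rw [e]
    rcases hab with ⟨rfl, rfl, rfl⟩ | ⟨rfl, rfl, rfl⟩ | ⟨rfl, rfl, rfl⟩ <;>
      exact mul_ne_zero (hne _ _ (by omega) (by omega) (by omega) (by omega) (by omega))
        (hne _ _ (by omega) (by omega) (by omega) (by omega) (by omega))
  · rw [e]
    have hl3 : l = a ∨ l = b := by omega
    rcases hl3 with rfl | rfl <;> simp

theorem count_beq_eq {α : Type*} [BEq α] [LawfulBEq α] [DecidableEq α] (x : α) (L : List α) :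
    @List.count α instBEqOfDecidableEq x L = List.count x L := by
  unfold List.count
  congr 1
  funext a
  by_cases h : a = x <;> simp [h]

namespace Rel

variable {D : ChevalleyDatum} {X : Aux} {F : Type*} [Field F] {G : Type*} [Group G] (R : Rel D X F G)
include R

theorem xe_mem_UP_nat {r : ℕ} (hr : half D ≤ r) (t : F) : R.xe r t ∈ R.UP := by
  by_cases h : r < D.nroots
  · exact R.xe_mem_US (S := posSet D) (r := ⟨r, h⟩) hr t
  · rw [R.xe_oob r t h]; exact one_mem _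

/-- a positive root element in the abelianisation of `U` -/
noncomputable def xAb (r : ℕ) (t : F) : Abelianization ↥R.UP :=
  if h : half D ≤ r then Abelianization.of ⟨R.xe r t, R.xe_mem_UP_nat h t⟩ else 1

theorem xAb_pos {r : ℕ} (h : half D ≤ r) (t : F) :
    R.xAb r t = Abelianization.of ⟨R.xe r t, R.xe_mem_UP_nat h t⟩ := dif_pos h

theorem xAb_add (r : ℕ) (t u : F) : R.xAb r (t + u) = R.xAb r t * R.xAb r u := by
  by_cases h : half D ≤ r
  · simp only [R.xAb_pos h, ← map_mul]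
    exact congrArg _ (Subtype.ext (R.xe_add' r t u).symm)
  · simp [xAb, h]

theorem xAb_zero (r : ℕ) : R.xAb r 0 = 1 := by
  have h := R.xAb_add r 0 0
  rw [add_zero] at h
  exact mul_eq_left.1 h.symm

theorem xAb_sum (r : ℕ) (f : Fin 3 → F) : R.xAb r (∑ m, f m) = R.xAb r (f 0) * R.xAb r (f 1) * R.xAb r (f 2) := by
  rw [Fin.sum_univ_three, R.xAb_add, R.xAb_add]

theorem exists_prod_ab (L : List (ℕ × F)) (hL : ∀ p ∈ L, half D ≤ p.1) :
    ∃ h : (L.map fun p => R.xe p.1 p.2).prod ∈ R.UP,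
      Abelianization.of (⟨_, h⟩ : ↥R.UP) = (L.map fun p => R.xAb p.1 p.2).prod := by
  induction L with
  | nil => exact ⟨one_mem _, map_one _⟩
  | cons p L ih =>
    obtain ⟨hm, he⟩ := ih fun q hq => hL q (List.mem_cons_of_mem _ hq)
    have hp := hL p List.mem_cons_self
    have hmem : ((p :: L).map fun p => R.xe p.1 p.2).prod ∈ R.UP := by
      rw [List.map_cons, List.prod_cons]; exact mul_mem (R.xe_mem_UP_nat hp p.2) hm
    refine ⟨hmem, ?_⟩
    rw [show (⟨_, hmem⟩ : ↥R.UP) = (⟨R.xe p.1 p.2, R.xe_mem_UP_nat hp p.2⟩ : ↥R.UP) * ⟨_, hm⟩ from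
      Subtype.ext List.prod_cons, map_mul, he, List.map_cons, List.prod_cons, R.xAb_pos hp]

theorem xAb_word {r s : Fin D.nroots} (hr : half D ≤ (r : ℕ)) (hs : half D ≤ (s : ℕ)) (hne : s ≠ r) (t u : F) :
    ((D.commTerms r s).map fun c => R.xAb c.1 ((c.2.1 : F) * (-t) ^ c.2.2.1 * u ^ c.2.2.2)).prod = 1 := by
  have hneg : s ≠ R.negF r := fun e => (R.negF_pos_iff r).1 (e ▸ hs) hr
  have h := R.xe_comm r s t u r.2 s.2 (fun e => hne (Fin.ext e)) (fun e => hneg (Fin.ext e))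
  obtain ⟨hm, he⟩ := R.exists_prod_ab (D.commWord F r s t u) (by
    intro p hp
    simp only [ChevalleyDatum.commWord, List.mem_map] at hp
    obtain ⟨c, hc, rfl⟩ := hp
    exact ((R.cert.commTerms_props r.2 s.2 c hc).2.2.2.1 hr hs).2.2)
  have h' : (⟨R.xe s u, R.xe_mem_UP_nat hs u⟩ : ↥R.UP) * ⟨R.xe r t, R.xe_mem_UP_nat hr t⟩ =
      ⟨R.xe r t, R.xe_mem_UP_nat hr t⟩ * ⟨R.xe s u, R.xe_mem_UP_nat hs u⟩ * ⟨_, hm⟩ := Subtype.ext h
  have h2 := congrArg Abelianization.of h'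
  simp only [map_mul] at h2
  have h3 := mul_eq_left.1 (h2.symm.trans (mul_comm _ _))
  rw [he] at h3
  simpa [ChevalleyDatum.commWord, List.map_map, Function.comp_def] using h3

theorem commTerm_not_simple {r s : Fin D.nroots} (hr : half D ≤ (r : ℕ)) (hs : half D ≤ (s : ℕ))
    {c : ℕ × ℤ × ℕ × ℕ} (hc : c ∈ D.commTerms r s) {i : ℕ} (hi : i < D.rank) : c.1 ≠ D.simple i := by
  intro e
  obtain ⟨_, h1, h2, _, h5⟩ := R.cert.commTerms_props r.2 s.2 c hc
  have h1' : (1 : ℤ) ≤ c.2.2.1 := by exact_mod_cast h1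
  have h2' : (1 : ℤ) ≤ c.2.2.2 := by exact_mod_cast h2
  have key : ∀ j, j < D.rank → (if j = i then (1 : ℤ) else 0) =
      (c.2.2.1 : ℤ) * X.coef j r + (c.2.2.2 : ℤ) * X.coef j s := by
    intro j hj
    rw [← h5 j hj, e, R.cert.coef_simple hi hj]
  have hz : ∀ j, j < D.rank → j ≠ i → X.coef j r = 0 ∧ X.coef j s = 0 := by
    intro j hj hji
    have hk := key j hj
    rw [if_neg hji] at hk
    have a := R.cert.coef_nonneg r.2 hj hr
    have b := R.cert.coef_nonneg s.2 hj hs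
    constructor <;> nlinarith
  have hpos : ∀ q : Fin D.nroots, half D ≤ (q : ℕ) → (∀ j, j < D.rank → j ≠ i → X.coef j q = 0) →
      1 ≤ X.coef i q := by
    intro q hq hq0
    obtain ⟨j, hj⟩ := R.exists_coef_ne_zero q
    have hji : (j : ℕ) = i := by by_contra hne; exact hj (hq0 j j.2 hne)
    have := R.cert.coef_nonneg q.2 hi hq
    rw [hji] at hj
    omega
  have a := hpos r hr fun j hj hji => (hz j hj hji).1
  have b := hpos s hs fun j hj hji => (hz j hj hji).2
  have hk := key i hi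
  rw [if_pos rfl] at hk
  nlinarith

/-- `U' ` contains all non-simple root groups -/
theorem xAb_nonsimple {low : Bool} (hchk : chkDer D low = true) (hsp : Split F low) :
    ∀ k, k < D.nroots → half D ≤ k → (∀ i < D.rank, k ≠ D.simple i) → ∀ t, R.xAb k t = 1 := by
  intro k
  induction hn : D.nroots - k using Nat.strong_induction_on generalizing k with
  | _ n ih =>
    intro hk hp hns t
    simp only [chkDer, List.all_eq_true, List.any_eq_true, Bool.or_eq_true, Bool.and_eq_true, List.mem_range,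
      nat_blt_iff, nat_beq_iff, nat_ble_iff, decide_eq_true_iff, Bool.not_eq_true'] at hchk
    rcases hchk k hk with (h | ⟨i, hi, h⟩) | ⟨i, hi, s, hs, ⟨⟨hsp', hne⟩, x, hx, ⟨⟨⟨⟨⟨hxk, hxC⟩, hxi⟩, hxj⟩, hxj'⟩, hcount⟩, hall⟩⟩
    · omega
    · exact absurd h (hns i hi)
    obtain ⟨w, u, hg, hlow⟩ := hsp x.2.2.2 hxj hxj'
    have hne' : (⟨s, hs⟩ : Fin D.nroots) ≠ R.sroot ⟨i, hi⟩ := fun e => by
      have e' : D.simple i = s := (congrArg Fin.val e).symm
      rw [nat_beq_iff.2 e'] at hne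
      cases hne
    have hw := fun τ ν => R.xAb_word (r := R.sroot ⟨i, hi⟩) (s := ⟨s, hs⟩) (R.sroot_pos _) hsp' hne' τ ν
    obtain ⟨τ, hτ⟩ : ∃ τ, τ = -t / ((x.2.1 : F) * ∑ m, w m * u m ^ x.2.2.2) := ⟨_, rfl⟩
    have h3 := congrArg₂ (· * ·) (congrArg₂ (· * ·) (hw (τ * w 0) (u 0)) (hw (τ * w 1) (u 1))) (hw (τ * w 2) (u 2))
    simp only [← List.prod_map_mul, mul_one] at h3
    rw [List.prod_map_eq_pow_single x _ (fun c hcx hc => ?_)] at h3
    · rw [count_beq_eq, show List.count x (D.commTerms (R.sroot ⟨i, hi⟩ : ℕ) s) = 1 from hcount, pow_one, ← R.xAb_add, ← R.xAb_add, hxk, hxi] at h3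
      have hC : (x.2.1 : F) ≠ 0 := by rcases hxC with e | e <;> simp [e]
      convert h3 using 2
      rw [hτ]
      simp only [Fin.sum_univ_three] at hg ⊢
      field_simp
    · obtain ⟨hclt, _, _, _, _⟩ := R.cert.commTerms_props (R.sroot ⟨i, hi⟩).2 hs c hc
      have hcns := fun q (hq : q < D.rank) =>
        R.commTerm_not_simple (r := R.sroot ⟨i, hi⟩) (s := ⟨s, hs⟩) (R.sroot_pos _) hsp' hc hq
      have h := hall c hc
      simp only [termOK, Bool.or_eq_true, Bool.and_eq_true, beq_iff_eq, nat_blt_iff, nat_beq_iff, nat_ble_iff,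
        Bool.not_eq_true'] at h
      rcases h with (h | h) | ⟨⟨⟨⟨⟨hl, hck⟩, hci⟩, hcj⟩, hcj'⟩, hcne⟩
      · exact absurd h hcx
      · simp only [ih (D.nroots - c.1) (by omega) c.1 rfl hclt (by omega) hcns, mul_one]
      · have hj : c.2.2.2 ≠ x.2.2.2 := fun e => by rw [nat_beq_iff.2 e] at hcne; cases hcne
        rw [← R.xAb_add, ← R.xAb_add, hci]
        have h0 := hlow hl c.2.2.2 hcj hcj' hj
        simp only [Fin.sum_univ_three] at h0
        convert R.xAb_zero c.1 using 2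
        linear_combination (-(c.2.1 : F) * τ) * h0

/-! ### simple coordinates -/

theorem eq_zero_of_xe_mem_rest (i : Fin D.rank) {a : F} (h : R.xe (D.simple i) a ∈ R.US (R.restSet i)) : a = 0 := by
  by_contra ha
  have h1 := R.ne_conj_rest i h
  rw [R.ne_conj_xe_simple] at h1
  refine R.xe_not_BS (r := R.negF (R.sroot i)) ?_ (neg_ne_zero.2 ha)
    (R.UP_le_BS (R.US_mono (R.restSet_subset i) h1)) rfl
  rw [R.negF_pos_iff, not_not]
  exact R.sroot_pos i

open Classical in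
/-- the coordinate at the `i`-th simple root -/
noncomputable def sc (i : Fin D.rank) (g : G) : F :=
  if h : g ∈ R.UP then (R.exists_UP_split i h).choose_spec.2.choose else 0

theorem sc_spec (i : Fin D.rank) {g : G} (hg : g ∈ R.UP) :
    ∃ v ∈ R.US (R.restSet i), g = v * R.xe (D.simple i) (R.sc i g) := by
  rw [sc, dif_pos hg]
  exact ⟨_, (R.exists_UP_split i hg).choose_spec.1, (R.exists_UP_split i hg).choose_spec.2.choose_spec⟩

theorem sc_eq (i : Fin D.rank) {v : G} (hv : v ∈ R.US (R.restSet i)) (t : F) :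
    R.sc i (v * R.xe (D.simple i) t) = t := by
  obtain ⟨v', hv', e⟩ := R.sc_spec i (g := v * R.xe (D.simple i) t)
    (mul_mem (R.US_mono (R.restSet_subset i) hv) (R.xe_mem_UP_nat (R.cert.simple_pos i.2) t))
  generalize R.sc i (v * R.xe (D.simple i) t) = t' at e
  have h : v'⁻¹ * v = R.xe (D.simple i) t' * (R.xe (D.simple i) t)⁻¹ := by
    rw [eq_mul_inv_iff_mul_eq, mul_assoc, e, inv_mul_cancel_left]
  rw [← R.xe_neg, R.xe_add'] at h
  have := R.eq_zero_of_xe_mem_rest i (h ▸ mul_mem (inv_mem hv') hv)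
  linear_combination this

theorem sc_rest (i : Fin D.rank) {v : G} (hv : v ∈ R.US (R.restSet i)) : R.sc i v = 0 := by
  have := R.sc_eq i hv 0
  rwa [R.xe_zero, mul_one] at this

theorem sc_one (i : Fin D.rank) : R.sc i (1 : G) = 0 := R.sc_rest i (one_mem _)

theorem sc_xe (i : Fin D.rank) (t : F) : R.sc i (R.xe (D.simple i) t) = t := by
  have := R.sc_eq i (one_mem _) t
  rwa [one_mul] at this

theorem sc_xe_other (i : Fin D.rank) {r : Fin D.nroots} (hr : half D ≤ (r : ℕ)) (hne : r ≠ R.sroot i) (t : F) :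
    R.sc i (R.xe r t) = 0 := R.sc_rest i (R.xe_mem_US (S := R.restSet i) ⟨hr, hne⟩ t)

theorem sc_mul (i : Fin D.rank) {g h : G} (hg : g ∈ R.UP) (hh : h ∈ R.UP) :
    R.sc i (g * h) = R.sc i g + R.sc i h := by
  obtain ⟨v, hv, eg⟩ := R.sc_spec i hg
  obtain ⟨v', hv', eh⟩ := R.sc_spec i hh
  generalize R.sc i g = a at eg ⊢
  generalize R.sc i h = b at eh ⊢
  subst eg eh
  have hn := (Subgroup.mem_normalizer_iff.1 (R.xe_simple_mem_normalizer i a).1 v').1 hv'
  rw [show v * R.xe (D.simple i) a * (v' * R.xe (D.simple i) b) =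
    v * (R.xe (D.simple i) a * v' * (R.xe (D.simple i) a)⁻¹) * (R.xe (D.simple i) a * R.xe (D.simple i) b) by group,
    R.xe_add']
  exact R.sc_eq i (mul_mem hv hn) _

theorem sc_inv (i : Fin D.rank) {g : G} (hg : g ∈ R.UP) : R.sc i g⁻¹ = - R.sc i g := by
  have h := R.sc_mul i hg (inv_mem hg)
  rw [mul_inv_cancel, R.sc_one] at h
  linear_combination -h

/-- an element of `U` modulo `U'` is given by its simple coordinates -/
theorem abelianization_eq {low : Bool} (hchk : chkDer D low = true) (hsp : Split F low) {g : G} (hg : g ∈ R.UP) :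
    Abelianization.of (⟨g, hg⟩ : ↥R.UP) = ∏ k : Fin D.rank, R.xAb (D.simple k) (R.sc k g) := by
  classical
  suffices h : ∀ g, g ∈ R.UP → ∃ hg : g ∈ R.UP,
      Abelianization.of (⟨g, hg⟩ : ↥R.UP) = ∏ k : Fin D.rank, R.xAb (D.simple k) (R.sc k g) by
    exact (h g hg).2
  intro g hg
  refine closure_induction_symm R.gens_symm ?h1 ?hmul hg
  case h1 =>
    exact ⟨one_mem _, by simp only [R.sc_one, R.xAb_zero, Finset.prod_const_one]; exact map_one _⟩
  case hmul =>
    intro x hx y ih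
    obtain ⟨r, hr, t, rfl⟩ := hx
    obtain ⟨hy, ey⟩ := ih
    have hxm := R.xe_mem_UP_nat hr t
    refine ⟨mul_mem hxm hy, ?_⟩
    rw [show (⟨R.xe r t * y, _⟩ : ↥R.UP) = ⟨R.xe r t, hxm⟩ * ⟨y, hy⟩ from rfl, map_mul, ey, ← R.xAb_pos hr]
    simp only [R.sc_mul _ hxm hy, R.xAb_add, Finset.prod_mul_distrib]
    congr 1
    by_cases h : ∃ i, r = R.sroot i
    · obtain ⟨i, rfl⟩ := h
      rw [Finset.prod_eq_single i]
      · rw [show (R.sroot i : ℕ) = D.simple i from rfl, R.sc_xe]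
      · intro k _ hk
        rw [R.sc_xe_other k (R.sroot_pos i) (fun e => hk (R.sroot_injective e).symm), R.xAb_zero]
      · simp
    · rw [R.xAb_nonsimple hchk hsp r r.2 hr (fun i hi e => h ⟨⟨i, hi⟩, Fin.ext e⟩), Finset.prod_eq_one]
      intro k _
      rw [R.sc_xe_other k hr (fun e => h ⟨k, e⟩), R.xAb_zero]

end Rel

end CfsgLib.Lie.Chev
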