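/-
A subgroup of U that is weakly closed in U is the unipotent radical of a standard parabolic subgroup.
-/
import Cfsg.Agent.Lib.Lie.Rel.StWeyl
import Cfsg.Agent.Lib.Lie.WeakClosed.Generation
import Cfsg.Agent.Lib.PGroups.Basic

set_option autoImplicit false

namespace CfsgLib.Lie.Chev

open Cfsg.Lie (ChevalleyDatum)
open CfsgLib.Lie.Exchange

namespace Rel

variable {D : ChevalleyDatum} {X : Aux} {F : Type*} [Field F] {G : Type*} [Group G] (R : Rel D X F G)
include R

/-- a subgroup of `U` normalised by a parabolic subgroup lies in its unipotent radical -/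
theorem le_UR_of_normalized (hD : Desc D X) (J : Set ℕ) {Y : Subgroup G} (hY : Y ≤ R.UP)
    (hN : R.PJ J ≤ Subgroup.normalizer (Y : Set G)) : Y ≤ R.UR J := by
  have hw : R.wMax J ∈ ((R.PJ J).subgroupOf R.NS).map R.qmk := by
    refine ((Subgroup.closure_le _).2 ?_ : R.wJ J ≤ _) (R.wMax_mem J)
    rintro _ ⟨i, hi, rfl⟩
    exact ⟨R.nS i, Subgroup.mem_subgroupOf.2 (Subgroup.mem_sup_right (Subgroup.subset_closure ⟨i, hi, rfl⟩)), rfl⟩
  obtain ⟨g, hg, hgw⟩ := hw
  replace hg : (g : G) ∈ R.PJ J := Subgroup.mem_subgroupOf.1 hg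
  have hσ : R.nsPerm g = R.qact (R.wMax J) := by rw [← hgw, R.qact_qmk]
  obtain ⟨a, ha⟩ := R.isMon_nsPerm g
  let P : Set (Fin D.nroots) := {r | half D ≤ (r : ℕ) ∧ r ∈ subSet D X J}
  have hP : R.US P ≤ R.PJ J := R.US_le fun r hr t => R.xe_mem_PJ J hD (Or.inl hr.1) t
  have hle : R.UP ≤ R.UR J ⊔ R.US P := R.US_le fun r hr t => by
    by_cases h : r ∈ subSet D X J
    · exact Subgroup.mem_sup_right (R.xe_mem_US (S := P) ⟨hr, h⟩ t)
    · exact Subgroup.mem_sup_left (R.xe_mem_US (S := radSet D X J) ⟨hr, h⟩ t)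
  intro y hy
  obtain ⟨u, hu, l, hl, rfl⟩ := exists_mul_of_mem_sup (hP.trans (R.PJ_le_normalizer J hD)) (hle (hY hy))
  have h1 : (g : G) * (u * l) * (g : G)⁻¹ ∈ R.UP := hY ((Subgroup.mem_normalizer_iff.1 (hN hg) _).1 hy)
  have h2 : (g : G) * u * (g : G)⁻¹ ∈ R.UP :=
    R.US_mono (fun r hr => hr.1) ((Subgroup.mem_normalizer_iff.1 (R.PJ_le_normalizer J hD hg) u).1 hu)
  have h3 : (g : G) * l * (g : G)⁻¹ ∈ R.UN :=
    IsMon.conj_mem_US R ha (T := negSet D) (fun r hr => by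
      show ¬ half D ≤ (R.nsPerm g r : ℕ)
      rw [hσ]; exact R.neg_of_sub (R.wMax_isMax J) hr.1 hr.2) hl
  have h4 : (g : G) * l * (g : G)⁻¹ ∈ R.UP := by
    have := mul_mem (inv_mem h2) h1
    rwa [show ((g : G) * u * (g : G)⁻¹)⁻¹ * ((g : G) * (u * l) * (g : G)⁻¹) = (g : G) * l * (g : G)⁻¹ by group] at this
  have h5 := R.eq_one_of_UP_low h4 (R.isLow_mat h3)
  rw [conj_eq_one_iff] at h5
  rw [h5, mul_one]
  exact hu

theorem sc_conj_HS {h : G} (hh : h ∈ R.HS) {a : Fin D.nroots → F} (ha : R.IsMon h 1 a) (i : Fin D.rank) {g : G}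
    (hg : g ∈ R.UP) : R.sc i (h * g * h⁻¹) = a (R.sroot i) * R.sc i g := by
  obtain ⟨v, hv, e⟩ := R.sc_spec i hg
  generalize R.sc i g = t at e ⊢
  subst e
  have hv' := (Subgroup.mem_normalizer_iff.1 (R.HS_le_normalizer_US (R.restSet i) hh) v).1 hv
  rw [show h * (v * R.xe (D.simple i) t) * h⁻¹ = h * v * h⁻¹ * (h * R.xe (R.sroot i : ℕ) t * h⁻¹) by
    simp only [sroot]; group, (ha (R.sroot i)).2.2.2 t]
  exact R.sc_eq i hv' _

/-- the multipliers preserving a group of coordinate vectors -/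
def multRing (S : AddSubgroup (Fin D.rank → F)) : Subring (Fin D.rank → F) where
  carrier := {r | ∀ s ∈ S, r * s ∈ S}
  mul_mem' := fun {a b} ha hb s hs => by rw [mul_assoc]; exact ha _ (hb s hs)
  one_mem' := fun s hs => by rwa [one_mul]
  add_mem' := fun {a b} ha hb s hs => by rw [add_mul]; exact S.add_mem (ha s hs) (hb s hs)
  zero_mem' := fun s _ => by rw [zero_mul]; exact S.zero_mem
  neg_mem' := fun {a} ha s hs => by rw [neg_mul]; exact S.neg_mem (ha s hs)

omit R in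
/-- a multiplier ring with full projections that separates coordinates contains every coordinate vector -/
theorem single_mem_of_sep {n : ℕ} (M : Subring (Fin n → F)) (hsurj : ∀ (k : Fin n) (a : F), ∃ r ∈ M, r k = a)
    (hsep : ∀ i k : Fin n, i ≠ k → ∃ r ∈ M, (r k = 0 ∧ r i ≠ 0) ∨ (r i = 0 ∧ r k ≠ 0)) (i : Fin n) (a : F) :
    Pi.single i a ∈ M := by
  classical
  have key : ∀ k, k ≠ i → ∃ r ∈ M, r k = 0 ∧ r i = 1 := by
    intro k hk
    obtain ⟨r, hr, ⟨h1, h2⟩ | ⟨h1, h2⟩⟩ := hsep i k (Ne.symm hk)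
    · obtain ⟨r', hr', e⟩ := hsurj i (r i)⁻¹
      exact ⟨r * r', M.mul_mem hr hr', by simp [h1], by simp [e, h2]⟩
    · obtain ⟨r', hr', e⟩ := hsurj k (r k)⁻¹
      exact ⟨1 - r * r', M.sub_mem M.one_mem (M.mul_mem hr hr'), by simp [e, h2], by simp [h1]⟩
  choose f hf using key
  obtain ⟨r0, hr0, e0⟩ := hsurj i a
  let p : Fin n → Fin n → F := fun k => if hk : k ≠ i then f k hk else 1
  have hp : ∏ k, p k ∈ M := Subring.prod_mem M fun k _ => by
    simp only [p]; split_ifs with hk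
    · exact (hf k hk).1
    · exact M.one_mem
  have hsingle : Pi.single i a = r0 * ∏ k, p k := by
    funext j
    rw [Pi.mul_apply, Finset.prod_apply]
    by_cases hj : j = i
    · subst hj
      rw [Pi.single_eq_same, e0, Finset.prod_eq_one, mul_one]
      intro k _
      simp only [p]; split_ifs with hk
      · exact (hf k hk).2.2
      · rfl
    · rw [Pi.single_eq_of_ne hj, Finset.prod_eq_zero (Finset.mem_univ j), mul_zero]
      simp only [p]
      rw [dif_pos hj]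
      exact (hf j hj).2.1
  rw [hsingle]
  exact M.mul_mem hr0 hp

omit R in
/-- squares generate a finite field additively -/
theorem mem_of_squares [Finite F] {T : Set F} (hadd : ∀ x ∈ T, ∀ y ∈ T, x - y ∈ T) (hsq : ∀ c : F, c ^ 2 ∈ T)
    (a : F) : a ∈ T := by
  by_cases h2 : (2 : F) = 0
  · have hc : ringChar F = 2 := by
      have : CharP F 2 := CharTwo.of_one_ne_zero_of_two_eq_zero one_ne_zero h2
      exact ringChar.eq F 2
    have : Fintype F := Fintype.ofFinite F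
    obtain ⟨b, hb⟩ := FiniteField.isSquare_of_char_two hc a
    rw [hb, ← sq]
    exact hsq b
  · have h := hadd _ (hsq ((a + 1) / 2)) _ (hsq ((a - 1) / 2))
    convert h using 1
    field_simp
    ring

/-- side conditions on the field -/
def WCData (D : ChevalleyDatum) (F : Type*) [Field F] : Prop :=
  (∃ v : F, v ≠ 0 ∧ v ≠ 1 ∧ v ^ 2 ≠ 1 ∧ WCBig D) ∨ ((2 : F) ≠ 0 ∧ WCThree D)

/-- the torus separates two simple roots -/
theorem exists_sep (hW : WCData D F) (i k : Fin D.rank) (hik : i ≠ k) :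
    ∃ h ∈ R.HS, ∃ a, R.IsMon h 1 a ∧
      ((a (R.sroot k) = 1 ∧ a (R.sroot i) ≠ 1) ∨ (a (R.sroot i) = 1 ∧ a (R.sroot k) ≠ 1)) := by
  rcases hW with ⟨v, h0, h1, h2, hsep, -⟩ | ⟨h2, hsep, -⟩
  · simp only [chkSep, List.all_eq_true, List.any_eq_true, Bool.or_eq_true, Bool.and_eq_true, List.mem_range,
      nat_beq_iff, decide_eq_true_iff] at hsep
    rcases hsep i i.2 k k.2 with h | ⟨a, ha, b, hb, m, -, h⟩
    · exact absurd (Fin.ext h) hik
    · have hmon := R.isMon_mul (R.isMon_he_simple ⟨a, ha⟩ h0) (R.isMon_he_simple ⟨b, hb⟩ (pow_ne_zero m h0))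
      rw [mul_one] at hmon
      refine ⟨_, mul_mem (R.he_mem_HS ⟨a, ha⟩ h0) (R.he_mem_HS ⟨b, hb⟩ (pow_ne_zero m h0)), _, hmon, ?_⟩
      have key : ∀ e : ℤ, smallExp e = true → v ^ e ≠ 1 := by
        intro e he
        simp only [smallExp, decide_eq_true_iff] at he
        rcases he with rfl | rfl | rfl | rfl
        · simpa using h1
        · simpa using h1
        · simpa [zpow_ofNat] using h2
        · simpa [zpow_neg, zpow_ofNat] using h2
      have hval : ∀ l : Fin D.rank, sepExp D a b m l = D.cartan a (D.simple l) + (m : ℤ) * D.cartan b (D.simple l) :=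
        fun l => rfl
      simp only [Equiv.Perm.one_apply]
      have hcalc : ∀ l : Fin D.rank, v ^ D.cartan a (D.simple l) * (v ^ m) ^ D.cartan b (D.simple l) =
          v ^ sepExp D a b m l := by
        intro l
        rw [hval, zpow_add₀ h0, zpow_mul, zpow_natCast]
      simp only [sroot, hcalc]
      rcases h with ⟨h3, h4⟩ | ⟨h3, h4⟩
      · exact Or.inl ⟨by rw [h3, zpow_zero], key _ h4⟩
      · exact Or.inr ⟨by rw [h3, zpow_zero], key _ h4⟩
  · simp only [chkSepOdd, List.all_eq_true, List.any_eq_true, Bool.or_eq_true, List.mem_range,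
      nat_beq_iff, Bool.not_eq_true', decide_eq_false_iff_not] at hsep
    rcases hsep i i.2 k k.2 with h | ⟨a, ha, h⟩
    · exact absurd (Fin.ext h) hik
    · have hm : (-1 : F) ≠ 1 := fun e => h2 (by linear_combination -e)
      refine ⟨_, R.he_mem_HS ⟨a, ha⟩ (neg_ne_zero.2 one_ne_zero), _,
        R.isMon_he_simple ⟨a, ha⟩ (neg_ne_zero.2 (one_ne_zero (α := F))), ?_⟩
      simp only [sroot]
      rcases Int.even_or_odd (D.cartan a (D.simple i)) with hi | hi
      · refine Or.inr ⟨hi.neg_one_zpow, ?_⟩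
        have hk : Odd (D.cartan a (D.simple k)) := Int.odd_iff.2 (by
          have := Int.even_iff.1 hi; omega)
        rw [hk.neg_one_zpow]; exact hm
      · refine Or.inl ⟨?_, by rw [hi.neg_one_zpow]; exact hm⟩
        have hk : Even (D.cartan a (D.simple k)) := Int.even_iff.2 (by
          have := Int.odd_iff.1 hi; omega)
        exact hk.neg_one_zpow

/-- weakly closed subgroups of `U` are unipotent radicals -/
theorem weaklyClosed_eq_UR [Finite F] [Finite G] (hD : Desc D X) (hW : WCData D F) {Y : Subgroup G}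
    (hY : Y ≤ R.UP) (hwc : ∀ g : G, Y.map (MulAut.conj g).toMonoidHom ≤ R.UP → Y.map (MulAut.conj g).toMonoidHom = Y) :
    ∃ J : Set ℕ, (∀ j ∈ J, j < D.rank) ∧ Y = R.UR J := by
  classical
  have hnorm : ∀ g : G, (∀ y ∈ Y, g * y * g⁻¹ ∈ R.UP) → g ∈ Subgroup.normalizer (Y : Set G) := by
    intro g hg
    have h := hwc g (Subgroup.map_le_iff_le_comap.2 fun y hy => hg y hy)
    rw [Subgroup.mem_normalizer_iff]
    intro x
    constructor
    · intro hx
      rw [← h]
      exact ⟨x, hx, rfl⟩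
    · intro hx
      have hx' : (MulAut.conj g).toMonoidHom x ∈ Y.map (MulAut.conj g).toMonoidHom := h.symm ▸ hx
      obtain ⟨y, hy, e⟩ := hx'
      exact (MulEquiv.injective (MulAut.conj g) e) ▸ hy
  have hBN : R.BS ≤ Subgroup.normalizer (Y : Set G) := fun b hb => hnorm b fun y hy =>
    (Subgroup.mem_normalizer_iff.1 (R.BS_le_normalizer_UP hb) y).1 (hY hy)
  obtain ⟨J, hJ⟩ : ∃ J : Set ℕ, J = {j | ∃ h : j < D.rank, ∀ y ∈ Y, R.sc ⟨j, h⟩ y = 0} := ⟨_, rfl⟩
  have hPJ : R.PJ J ≤ Subgroup.normalizer (Y : Set G) := by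
    refine sup_le hBN ((Subgroup.closure_le _).2 ?_)
    rintro _ ⟨i, hi, rfl⟩
    rw [hJ] at hi
    obtain ⟨h, hi⟩ := hi
    refine hnorm _ fun y hy => ?_
    obtain ⟨v, hv, e⟩ := R.sc_spec i (hY hy)
    rw [hi y hy, R.xe_zero, mul_one] at e
    rw [e]
    exact R.US_mono (R.restSet_subset i) (R.ne_conj_rest i hv)
  have hUR : Y ≤ R.UR J := R.le_UR_of_normalized hD J hY hPJ
  let S : AddSubgroup (Fin D.rank → F) :=
    { carrier := {z | ∃ y ∈ Y, ∀ k, z k = R.sc k y}
      zero_mem' := ⟨1, one_mem _, fun k => (R.sc_one k).symm⟩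
      add_mem' := by
        rintro a b ⟨y, hy, e⟩ ⟨y', hy', e'⟩
        exact ⟨y * y', mul_mem hy hy', fun k => by rw [Pi.add_apply, e, e', R.sc_mul k (hY hy) (hY hy')]⟩
      neg_mem' := by
        rintro a ⟨y, hy, e⟩
        exact ⟨y⁻¹, inv_mem hy, fun k => by rw [Pi.neg_apply, e, R.sc_inv k (hY hy)]⟩ }
  have htor : ∀ h ∈ R.HS, ∀ a, R.IsMon h 1 a → (fun k => a (R.sroot k)) ∈ multRing S := by
    rintro h hh a ha s ⟨y, hy, e⟩
    exact ⟨h * y * h⁻¹, (Subgroup.mem_normalizer_iff.1 (hBN (R.HS_le_BS hh)) y).1 hy,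
      fun k => by rw [Pi.mul_apply, e, R.sc_conj_HS hh ha k (hY hy)]⟩
  have hsurj : ∀ (k : Fin D.rank) (a : F), ∃ r ∈ multRing S, r k = a := by
    intro k a
    refine mem_of_squares (T := {a | ∃ r ∈ multRing S, r k = a}) ?_ ?_ a
    · rintro x ⟨r, hr, rfl⟩ y ⟨r', hr', rfl⟩
      exact ⟨r - r', (multRing S).sub_mem hr hr', rfl⟩
    · intro c
      by_cases hc : c = 0
      · exact ⟨0, (multRing S).zero_mem, by simp [hc]⟩
      · refine ⟨_, htor _ (R.he_mem_HS k hc) _ (R.isMon_he_simple k hc), ?_⟩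
        show c ^ D.cartan k (D.simple k) = c ^ 2
        rw [R.cert.cartan_simple k.2]; exact zpow_ofNat c 2
  have hsep : ∀ i k : Fin D.rank, i ≠ k →
      ∃ r ∈ multRing S, (r k = 0 ∧ r i ≠ 0) ∨ (r i = 0 ∧ r k ≠ 0) := by
    intro i k hik
    obtain ⟨h, hh, a, ha, hv⟩ := R.exists_sep hW i k hik
    refine ⟨(fun k => a (R.sroot k)) - 1, (multRing S).sub_mem (htor h hh a ha) (multRing S).one_mem, ?_⟩
    simp only [Pi.sub_apply, Pi.one_apply, sub_eq_zero, sub_ne_zero]
    exact hv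
  have hline : ∀ i : Fin D.rank, (i : ℕ) ∉ J → ∀ a : F, ∃ y ∈ Y, ∀ k, R.sc k y = if k = i then a else 0 := by
    intro i hi a
    simp only [hJ, Set.mem_setOf_eq, not_exists, not_forall] at hi
    obtain ⟨y, hy, hne⟩ := hi i.2
    obtain ⟨z, hz, e⟩ := single_mem_of_sep (multRing S) hsurj hsep i (a / R.sc i y)
      (fun k => R.sc k y) ⟨y, hy, fun k => rfl⟩
    refine ⟨z, hz, fun k => ?_⟩
    rw [← e k, Pi.mul_apply]
    by_cases hk : k = i
    · subst hk; rw [Pi.single_eq_same, if_pos rfl, div_mul_cancel₀ _ hne]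
    · rw [Pi.single_eq_of_ne hk, zero_mul, if_neg hk]
  obtain ⟨low, hchk, hsp⟩ : ∃ low, chkDer D low = true ∧ Split F low := by
    rcases hW with ⟨v, h0, h1, h2, -, h⟩ | ⟨-, -, h⟩
    · exact ⟨true, h, split_true h0 h1 h2⟩
    · exact ⟨false, h, split_false F⟩
  let K : Set (Fin D.nroots) := {r | ∃ j : Fin D.rank, (j : ℕ) ∈ J ∧ r = R.sroot j}
  have hKP : K ⊆ posSet D := by rintro r ⟨j, -, rfl⟩; exact R.sroot_pos j
  have hWle : Y ⊔ R.US K ≤ R.UP := sup_le hY (R.US_mono hKP)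
  have htop : (Y ⊔ R.US K).subgroupOf R.UP = ⊤ := by
    have : Group.IsNilpotent ↥R.UP := R.UP_isNilpotent
    refine frattini_nongenerating (eq_top_iff.2 (le_trans ?_ (sup_le_sup le_rfl CfsgLib.PGroups.commutator_le_frattini)))
    rintro ⟨g, hg⟩ -
    have hall : ∀ k : Fin D.rank, ∀ a : F, ∃ w ∈ Y ⊔ R.US K, ∀ l, R.sc l w = if l = k then a else 0 := by
      intro k a
      by_cases hk : (k : ℕ) ∈ J
      · refine ⟨R.xe (D.simple k) a, Subgroup.mem_sup_right (R.xe_mem_US (S := K) (r := R.sroot k) ⟨k, hk, rfl⟩ a),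
          fun l => ?_⟩
        by_cases hl : l = k
        · subst hl; rw [if_pos rfl, R.sc_xe]
        · rw [if_neg hl]
          exact R.sc_xe_other l (R.sroot_pos k) (fun e => hl (R.sroot_injective e).symm) a
      · obtain ⟨y, hy, e⟩ := hline k hk a
        exact ⟨y, Subgroup.mem_sup_left hy, e⟩
    choose w hw hwe using fun k => hall k (R.sc k g)
    let w' : Fin D.rank → ↥R.UP := fun k => ⟨w k, hWle (hw k)⟩
    have hprod : ∀ k, Abelianization.of (w' k) = R.xAb (D.simple k) (R.sc k g) := by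
      intro k
      rw [R.abelianization_eq hchk hsp (w' k).2, Finset.prod_eq_single k]
      · rw [show ((w' k : ↥R.UP) : G) = w k from rfl, hwe, if_pos rfl]
      · intro l _ hl
        rw [show ((w' k : ↥R.UP) : G) = w k from rfl, hwe, if_neg hl, R.xAb_zero]
      · simp
    obtain ⟨q, hq⟩ : ∃ q : ↥R.UP, q = ((List.finRange D.rank).map w').prod := ⟨_, rfl⟩
    have hqW : q ∈ (Y ⊔ R.US K).subgroupOf R.UP := by
      rw [hq]
      refine list_prod_mem fun x hx => ?_
      obtain ⟨k, -, rfl⟩ := List.mem_map.1 hx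
      exact Subgroup.mem_subgroupOf.2 (hw k)
    have heq : Abelianization.of q = Abelianization.of (⟨g, hg⟩ : ↥R.UP) := by
      rw [hq, map_list_prod, List.map_map, R.abelianization_eq hchk hsp hg, Fin.prod_univ_def]
      exact congrArg List.prod (List.map_congr_left fun k _ => hprod k)
    have hc : q⁻¹ * ⟨g, hg⟩ ∈ commutator ↥R.UP := by
      rw [← Abelianization.ker_of, MonoidHom.mem_ker, map_mul, map_inv, heq, inv_mul_cancel]
    rw [show (⟨g, hg⟩ : ↥R.UP) = q * (q⁻¹ * ⟨g, hg⟩) by group]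
    exact Subgroup.mul_mem_sup hqW hc
  refine ⟨J, fun j hj => by rw [hJ] at hj; exact hj.1, le_antisymm hUR fun x hx => ?_⟩
  have hxW : x ∈ Y ⊔ R.US K := Subgroup.mem_subgroupOf.1
    (htop ▸ Subgroup.mem_top (⟨x, R.US_mono (S := radSet D X J) (T := posSet D) (fun r hr => hr.1) hx⟩ : ↥R.UP))
  have hKL : R.US K ≤ R.LJ J := (R.US_mono (T := subSet D X J) fun r hr => by
    obtain ⟨j, hj, rfl⟩ := hr; exact R.sroot_mem_sub J hj).trans le_sup_right
  have hKN : R.US K ≤ Subgroup.normalizer (Y : Set G) :=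
    (R.US_mono hKP).trans (R.UP_le_BS.trans hBN)
  obtain ⟨y, hy, l, hl, rfl⟩ := exists_mul_of_mem_sup hKN hxW
  have h1 : l ∈ R.UR J ⊓ R.LJ J :=
    Subgroup.mem_inf.2 ⟨by simpa using mul_mem (inv_mem (hUR hy)) hx, hKL hl⟩
  rw [R.UR_inf_LJ, Subgroup.mem_bot] at h1
  rw [h1, mul_one]
  exact hy

end Rel

end CfsgLib.Lie.Chev
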